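import Groth.Prelude.Def_KSix
import Groth.Agent.Dcoh.PerfFlat
import Groth.Agent.Dcoh.TopCoh
import Groth.Agent.Dcoh.StrPerf
import Groth.Agent.PerfA.Restrict

/-!
# Perfect amplitude: local form, comparison with strictly perfect complexes

* `StrAmp a b`: being represented by a complex of finite locally free modules vanishing outside `[a, b]`.
* `iff_locally`: `KSix.HasPerfectAmplitudeIn a b K ↔ Locally (StrAmp a b) X K`.
* `isPerfect`, `isGE`, `isLE`, `of_iso`, `restrict`, `of_cover`.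
* `strAmp_of_strPC`: flat amplitude in `[a, b']`, `StrPC (a - 1)` and no cohomology above degree `c` give `StrAmp a c`.
-/

set_option autoImplicit false
universe u
open CategoryTheory CategoryTheory.Limits AlgebraicGeometry ZeroObject
attribute [local instance] HasDerivedCategory.standard

namespace Groth.Agent.Pic13.H968.Amp

open Groth.Agent.Dcoh.LocalD Groth.Agent.Dcoh

variable {X Y : Scheme.{u}}

/-- `K` is represented by a complex of finite locally free modules vanishing outside `[a, b]`. -/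
def StrAmp (a b : ℤ) : PropD.{u} := fun U K =>
  ∃ E : CochainComplex U.Modules ℤ, DCoh.VanishesOutside E a b ∧ (∀ i, FlatMod.IsFinLocFree (E.X i)) ∧
    Nonempty (K ≅ DerivedCategory.Q.obj E)

lemma isStable_strAmp (a b : ℤ) : IsStable (StrAmp.{u} a b) where
  iso e := fun ⟨E, h1, h2, ⟨i⟩⟩ => ⟨E, h1, h2, ⟨e.symm ≪≫ i⟩⟩
  restrict f _ _ := fun ⟨_, h1, h2, ⟨i⟩⟩ => ⟨_, vanishesOutside_restrict f h1,
    fun i => isFinLocFree_restrict _ f (h2 i), ⟨(DCoh.restrictD f).mapIso i ≪≫ QRestrict f _⟩⟩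

theorem iff_locally (a b : ℤ) (K : DCoh.D X) :
    KSix.HasPerfectAmplitudeIn a b K ↔ Locally (StrAmp a b) X K := by
  constructor
  · intro h x
    obtain ⟨V, hx, hV⟩ := h x
    obtain ⟨E, h1, h2, ⟨i⟩⟩ := hV (DerivedCategory.Q.objPreimage K)
      ⟨DerivedCategory.Q.objObjPreimageIso K⟩
    exact ⟨V, hx, E, h1, h2, ⟨(DCoh.restrictD V.ι).mapIso
      (DerivedCategory.Q.objObjPreimageIso K).symm ≪≫ QRestrict V.ι _ ≪≫ i⟩⟩
  · intro h x
    obtain ⟨V, hx, E, h1, h2, ⟨i⟩⟩ := h x
    exact ⟨V, hx, fun F ⟨b⟩ => ⟨E, h1, h2, ⟨(QRestrict V.ι F).symm ≪≫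
      (DCoh.restrictD V.ι).mapIso b ≪≫ i⟩⟩⟩

theorem isStable (a b : ℤ) :
    IsStable (fun (U : Scheme.{u}) K => KSix.HasPerfectAmplitudeIn (X := U) a b K) := by
  simpa only [iff_locally] using (isStable_strAmp a b).locally

theorem of_iso {a b : ℤ} {K L : DCoh.D X} (e : K ≅ L) (h : KSix.HasPerfectAmplitudeIn a b K) :
    KSix.HasPerfectAmplitudeIn a b L := (isStable a b).iso e h

theorem restrict {a b : ℤ} (f : X ⟶ Y) [IsOpenImmersion f] {K : DCoh.D Y}
    (h : KSix.HasPerfectAmplitudeIn a b K) : KSix.HasPerfectAmplitudeIn a b ((DCoh.restrictD f).obj K) :=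
  (isStable a b).restrict f K h

theorem of_cover {a b : ℤ} {K : DCoh.D X}
    (h : ∀ x : X, ∃ (U : Scheme.{u}) (f : U ⟶ X) (_ : IsOpenImmersion f),
      x ∈ Set.range f ∧ KSix.HasPerfectAmplitudeIn a b ((DCoh.restrictD f).obj K)) :
    KSix.HasPerfectAmplitudeIn a b K := by
  rw [iff_locally]
  refine locally_of_cover (isStable_strAmp a b) fun x => ?_
  obtain ⟨U, f, hf, hx, hU⟩ := h x
  exact ⟨U, f, hf, hx, (iff_locally a b _).1 hU⟩

theorem of_strAmp {a b : ℤ} {K : DCoh.D X} (h : StrAmp a b X K) : KSix.HasPerfectAmplitudeIn a b K :=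
  (iff_locally a b K).2 (locally_of_self K (isStable_strAmp a b) h)

theorem strPerf_of_strAmp {a b : ℤ} {K : DCoh.D X} (h : StrAmp a b X K) : StrPerf X K := by
  obtain ⟨E, h1, h2, i⟩ := h
  exact ⟨E, ⟨⟨a, b, h1⟩, h2⟩, i⟩

theorem isPerfect {a b : ℤ} {K : DCoh.D X} (h : KSix.HasPerfectAmplitudeIn a b K) : DCoh.IsPerfect K := by
  rw [isPerfect_iff_locally]
  exact locally_mono (fun U K => strPerf_of_strAmp) ((iff_locally a b K).1 h)

theorem strAmp_mono {a b a' b' : ℤ} (ha : a' ≤ a) (hb : b ≤ b') {K : DCoh.D X} (h : StrAmp a b X K) :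
    StrAmp a' b' X K := by
  obtain ⟨E, h1, h2, i⟩ := h
  exact ⟨E, fun i hi => h1 i (by omega), h2, i⟩

theorem mono {a b a' b' : ℤ} (ha : a' ≤ a) (hb : b ≤ b') {K : DCoh.D X}
    (h : KSix.HasPerfectAmplitudeIn a b K) : KSix.HasPerfectAmplitudeIn a' b' K := by
  rw [iff_locally] at h ⊢
  exact locally_mono (fun U K => strAmp_mono ha hb) h

theorem isGE_of_strAmp {a b : ℤ} {K : DCoh.D X} (h : StrAmp a b X K) : K.IsGE a := by
  obtain ⟨E, h1, -, ⟨i⟩⟩ := h
  have : E.IsStrictlyGE a := (CochainComplex.isStrictlyGE_iff _ _).2 fun i hi => h1 i (Or.inl hi)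
  have : (DerivedCategory.Q.obj E).IsGE a := inferInstance
  exact DerivedCategory.TStructure.t.isGE_of_iso i.symm a

theorem isLE_of_strAmp {a b : ℤ} {K : DCoh.D X} (h : StrAmp a b X K) : K.IsLE b := by
  obtain ⟨E, h1, -, ⟨i⟩⟩ := h
  have : E.IsStrictlyLE b := (CochainComplex.isStrictlyLE_iff _ _).2 fun i hi => h1 i (Or.inr hi)
  have : (DerivedCategory.Q.obj E).IsLE b := inferInstance
  exact DerivedCategory.TStructure.t.isLE_of_iso i.symm b

theorem isGE {a b : ℤ} {K : DCoh.D X} (h : KSix.HasPerfectAmplitudeIn a b K) : K.IsGE a := by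
  rw [iff_locally] at h
  refine PerfA.Restrict.isGE_of_restrictD_opens K a fun x => ?_
  obtain ⟨V, hx, hV⟩ := h x
  exact ⟨V, hx, isGE_of_strAmp hV⟩

theorem isLE {a b : ℤ} {K : DCoh.D X} (h : KSix.HasPerfectAmplitudeIn a b K) : K.IsLE b := by
  rw [iff_locally] at h
  refine PerfA.Restrict.isLE_of_restrictD_opens K b fun x => ?_
  obtain ⟨V, hx, hV⟩ := h x
  exact ⟨V, hx, isLE_of_strAmp hV⟩

/-- A zero object has any perfect amplitude. -/
theorem strAmp_of_isZero (a b : ℤ) {K : DCoh.D X} (h : IsZero K) : StrAmp a b X K := by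
  have h0 : IsZero (0 : CochainComplex X.Modules ℤ) := isZero_zero _
  have h1 : ∀ i, IsZero ((0 : CochainComplex X.Modules ℤ).X i) := fun i =>
    (HomologicalComplex.eval X.Modules (ComplexShape.up ℤ) i).map_isZero h0
  exact ⟨0, fun i _ => h1 i, fun i => FinLocFree.isFinLocFree_of_isZero (h1 i),
    ⟨h.iso (Functor.map_isZero _ h0)⟩⟩

/-- Cutting off a complex of finite locally free modules at the top. -/
theorem strAmp_cut {a b c : ℤ} (hc : a ≤ c) {K : DCoh.D X} (h : StrAmp a b X K) (hK : K.IsLE c) :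
    StrAmp a c X K := by
  obtain ⟨E, h1, h2, ⟨i⟩⟩ := h
  have hex : ∀ j, c < j → IsZero (E.homology j) := fun j hj =>
    ((DerivedCategory.isLE_iff K c).1 hK j hj).of_iso
      (((DerivedCategory.homologyFunctorFactors X.Modules j).app E).symm ≪≫
        (DerivedCategory.homologyFunctor _ j).mapIso i.symm)
  have hE : E.IsLE c := by
    rw [CochainComplex.isLE_iff]
    intro j hj
    rw [HomologicalComplex.exactAt_iff_isZero_homology]
    exact hex j hj
  refine ⟨E.truncLE c, ?_, ?_, ⟨i ≪≫ (asIso (DerivedCategory.Q.map (E.ιTruncLE c))).symm⟩⟩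
  · intro j hj
    rcases hj with hj | hj
    · exact (h1 j (Or.inl hj)).of_iso (E.truncLEXIso c j (by omega))
    · exact (E.truncLE c).isZero_of_isStrictlyLE c j hj
  · intro j
    rcases lt_trichotomy j c with hj | rfl | hj
    · exact FinLocFree.isFinLocFree_of_iso (E.truncLEXIso c j hj).symm (h2 j)
    · exact FinLocFree.isFinLocFree_of_iso (E.truncLEXIsoCycles j).symm
        (TopCoh.isFinLocFree_cycles ⟨⟨a, b, h1⟩, h2⟩ j hex)
    · exact FinLocFree.isFinLocFree_of_isZero ((E.truncLE c).isZero_of_isStrictlyLE c j hj)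

open DerivedCategory in
/-- An object with a good approximation by a strictly perfect complex in degrees `≥ a - 1`, represented by a flat
complex in degrees `[a, b]`, is represented by a complex of finite locally free modules in degrees `[a, q]`. -/
theorem exists_strAmp_of_strPC {K : DCoh.D X} {a b : ℤ} (h1 : DCoh.HasFlatAmplitudeIn a b K)
    (h2 : StrPC (a - 1) X K) : ∃ q : ℤ, StrAmp a q X K := by
  obtain ⟨F, hF, hF', ⟨e⟩⟩ := h1
  obtain ⟨E, α, hE, hα, -⟩ := h2
  have hα' : ∀ i, a ≤ i → IsIso ((homologyFunctor _ i).map α) := fun i hi => hα i (by lia)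
  have h3 : FlatMod.IsFlat (E.opcycles a) := by
    refine PerfFlat.isFlat_opcycles hE hF hF' (α ≫ e.inv) fun i hi => ?_
    have := hα' i hi
    rw [Functor.map_comp]
    infer_instance
  have h4 : FlatMod.IsFinLocFree (E.opcycles a) :=
    Spread.isFinLocFree_of_cokernel (hE.2 (a - 1)) (hE.2 a) (E.d (a - 1) a) (E.pOpcycles a)
      (E.d_pOpcycles _ _) (E.opcyclesIsCokernel (a - 1) a (by simp)) h3
  have h5 : ∀ i, i < a → IsZero ((homologyFunctor _ i).obj K) := by
    intro i hi
    have hz : IsZero (F.homology i) :=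
      (HomologicalComplex.ExactAt.of_isZero (hF i (Or.inl hi))).isZero_homology
    exact (hz.of_iso ((homologyFunctorFactors _ i).app F)).of_iso
      ((homologyFunctor _ i).mapIso e).symm
  obtain ⟨f⟩ := BddCx.nonempty_iso_truncGE E K a h5 α hα'
  obtain ⟨⟨p, q, hpq⟩, hE2⟩ := hE
  refine ⟨q, E.truncGE a, fun i hi => ?_, fun i => ?_, ⟨f⟩⟩
  · rcases hi with hi | hi
    · exact (E.truncGE a).isZero_of_isStrictlyGE a i hi
    · exact BddCx.truncGE_isZero_of_lt E a q (fun i hi => hpq i (Or.inr hi)) i hi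
  · exact (StrPerf.isStrictlyPerfect_truncGE ⟨⟨p, q, hpq⟩, hE2⟩ a h4).2 i

/-- An object with a good approximation by a strictly perfect complex in degrees `≥ a - 1`, represented by a flat
complex in degrees `[a, b]` and with no cohomology above degree `c` is represented by a complex of finite locally free
modules in degrees `[a, c]`. -/
theorem strAmp_of_strPC {K : DCoh.D X} {a b c : ℤ} (hc : K.IsLE c) (h1 : DCoh.HasFlatAmplitudeIn a b K)
    (h2 : StrPC (a - 1) X K) : StrAmp a c X K := by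
  obtain ⟨q, hq⟩ := exists_strAmp_of_strPC h1 h2
  have hGE := isGE_of_strAmp hq
  rcases lt_or_ge c a with hca | hca
  · exact strAmp_of_isZero a c (DerivedCategory.TStructure.t.isZero K c a hca)
  · exact strAmp_cut hca hq hc

end Groth.Agent.Pic13.H968.Amp
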