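import Groth.Agent.Pic13.H968.Amp
import Groth.Agent.PerfA.RelPerfPush
import Groth.Agent.PerfC.RelPerfPt
import Groth.Agent.PerfC.PullKFlat
import Groth.Agent.Models2.TorDimRel

/-!
# Perfect amplitude: pullback, criterion by fibres, direct images

* `lpull`: `Lg^*` preserves perfect amplitude.
* `of_fibre`: a pseudo-coherent `K` in `D^{[a, c]}(O_Y)` with `Lg_s^* K` in degrees `≥ a` for all `s`
  (`g_s : Spec κ(s) ⟶ Y`) has perfect amplitude in `[a, c]`.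
* `Rpush`: `f` proper flat of finite presentation, `E` of perfect amplitude in `[a, b]`, `Rf_* E` in degrees `≤ c`:
  then `Rf_* E` has perfect amplitude in `[a, c]`.
-/

set_option autoImplicit false
universe u
open CategoryTheory CategoryTheory.Limits AlgebraicGeometry
attribute [local instance] HasDerivedCategory.standard

namespace Groth.Agent.Pic13.H968.Push

open Groth.Agent Groth.Agent.Dcoh.LocalD Groth.Agent.Pic13.H968.Amp

variable {X Y : Scheme.{u}}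

/-- `Lg^*` preserves perfect amplitude. -/
theorem lpull (g : X ⟶ Y) [DCoh.HasLpull g] {a b : ℤ} {K : DCoh.D Y}
    (hK : KSix.HasPerfectAmplitudeIn a b K) : KSix.HasPerfectAmplitudeIn a b ((DCoh.Lpull g).obj K) := by
  rw [iff_locally] at hK ⊢
  intro x
  obtain ⟨V, hx, E, h1, h2, ⟨i⟩⟩ := hK (g x)
  have : DCoh.HasLpull (g ∣_ V) := S0959.result _
  obtain ⟨e⟩ := PerfC.LpullRestrict.nonempty_restrict_lpull (g := g) (g' := g ∣_ V) V.ι (g ⁻¹ᵁ V).ι
    (morphismRestrict_ι g V) K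
  have hflat : ∀ j, FlatMod.IsFlat (E.X j) := fun j => Dcoh.Spread.isFlat_of_isFinLocFree (h2 j)
  have hKf : DCoh.IsKFlat E := Groth.Agent.S0953.result E b
    ((CochainComplex.isStrictlyLE_iff E b).2 (fun j hj => h1 j (Or.inr hj))) hflat
  refine ⟨g ⁻¹ᵁ V, hx, ((Scheme.Modules.pullback (g ∣_ V)).mapHomologicalComplex (ComplexShape.up ℤ)).obj E,
    fun j hj => (Scheme.Modules.pullback (g ∣_ V)).map_isZero (h1 j hj),
    fun j => PerfB.FlatPull.isFinLocFree_pullback (g ∣_ V) (h2 j),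
    ⟨e ≪≫ (DCoh.Lpull (g ∣_ V)).mapIso i ≪≫ Dcoh.AdPull.isoQ (g ∣_ V) hKf⟩⟩

/-- The criterion by fibres. -/
theorem of_fibre {K : DCoh.D Y} (a c : ℤ) (hpc : DCoh.IsPseudoCoherentD (a - 2) K) (hGE : K.IsGE a)
    (hLE : K.IsLE c)
    [∀ s : Y, DCoh.HasLpull ((𝟙 Y : Y ⟶ Y).fiberι s)]
    (hfib : ∀ s : Y, ((DCoh.Lpull ((𝟙 Y : Y ⟶ Y).fiberι s)).obj K).IsGE a) :
    KSix.HasPerfectAmplitudeIn a c K := by
  refine of_cover fun x => ?_
  let f : Y ⟶ Y := 𝟙 Y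
  let s := f x
  let y : f.fiber s := f.asFiber x
  have hy : f.fiberι s y = x := f.fiberι_asFiber x
  obtain ⟨V, hx, hE₃⟩ := (isPseudoCoherentD_iff_locally (a - 2) K).mp hpc x
  have hE₄ : StrPC (a - 1 - 1) _ ((DCoh.restrictD V.ι).obj K) := by
    rw [show a - 1 - 1 = a - 2 by omega]
    exact hE₃
  let g := f.fiberι s ∣_ V
  have sq : IsPullback g (((f.fiberι s) ⁻¹ᵁ V).ι ≫ f.fiberToSpecResidueField s) (V.ι ≫ f)
      (Y.fromSpecResidueField s) :=
    ((isPullback_morphismRestrict (f.fiberι s) V).flip.paste_horiz (IsPullback.of_hasPullback _ _).flip).flip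
  have : DCoh.HasLpull g := S0959.result _
  obtain ⟨Pc, hPc⟩ := PerfC.PullKFlat.exists_pullData _ _ g
  have hy' : y ∈ (f.fiberι s) ⁻¹ᵁ V := by
    change f.fiberι s y ∈ V
    rw [hy]
    exact hx
  obtain ⟨e⟩ := PerfC.LpullRestrict.nonempty_restrict_lpull (g := f.fiberι s) (g' := g) V.ι
    ((f.fiberι s) ⁻¹ᵁ V).ι (morphismRestrict_ι _ V) K
  have hz : IsZero (DCoh.HD ((DCoh.Lpull g).obj ((DCoh.restrictD V.ι).obj K)) (a - 1)) := by
    have h0 := hfib s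
    have h3 : ((DCoh.restrictD ((f.fiberι s) ⁻¹ᵁ V).ι).obj ((DCoh.Lpull (f.fiberι s)).obj K)).IsGE a :=
      Dcoh.MapDer.isGE_map _ _ _
    have h4 := (DerivedCategory.isGE_iff _ a).mp h3 (a - 1) (by omega)
    exact h4.of_iso ((DerivedCategory.homologyFunctor _ (a - 1)).mapIso e).symm
  have hGE' : ((DCoh.restrictD V.ι).obj K).IsGE (a - 1 + 1) := by
    rw [sub_add_cancel]
    exact Dcoh.MapDer.isGE_map _ _ _
  obtain ⟨O, b, hO, hamp⟩ := PerfC.RelPerfPt.exists_open_hasRelFlatAmplitudeIn sq ⟨y, hy'⟩ hPc (a - 1)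
    ((DCoh.restrictD V.ι).obj K) hE₄ hGE' hz
  rw [sub_add_cancel] at hamp
  have hj : IsOpenImmersion (O.ι ≫ V.ι ≫ f) := by
    dsimp only [f]
    infer_instance
  have hamp' := (Models2.TorDimRel.hasFlatAmplitudeIn_iff_rel (O.ι ≫ V.ι ≫ f) a b _).1 hamp
  have hLE' : ((DCoh.restrictD O.ι).obj ((DCoh.restrictD V.ι).obj K)).IsLE c := by
    have h1 : ((DCoh.restrictD V.ι).obj K).IsLE c := Dcoh.MapDer.isLE_map _ _ _
    exact Dcoh.MapDer.isLE_map _ _ _
  have h5 := strAmp_of_strPC hLE' hamp' ((isStable_strPC (a - 1)).restrict O.ι _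
    (strPC_mono (by omega) hE₃))
  refine ⟨O, O.ι ≫ V.ι, inferInstance, ?_, ?_⟩
  · refine ⟨⟨g ⟨y, hy'⟩, hO⟩, ?_⟩
    have h6 : V.ι (g ⟨y, hy'⟩) = f.fiberι s y := by
      have := congr($(morphismRestrict_ι (f.fiberι s) V) ⟨y, hy'⟩)
      exact this
    exact h6.trans hy
  · exact of_iso ((restrictComp O.ι V.ι).app K) (of_strAmp h5)

/-- Direct image of a complex of perfect amplitude in `[a, b]`. -/
theorem Rpush (f : X ⟶ Y) [Flat f] [IsProper f] [LocallyOfFinitePresentation f]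
    [DCoh.HasRpush f] (E : DCoh.D X) (a b c : ℤ) (hE : KSix.HasPerfectAmplitudeIn a b E)
    (hc : ((DCoh.Rpush f).obj E).IsLE c) :
    KSix.HasPerfectAmplitudeIn a c ((DCoh.Rpush f).obj E) := by
  have hL : ∀ {Y Z : Scheme.{u}} (g : Y ⟶ Z), DCoh.HasLpull g := fun g => S0959.result g
  have hR : ∀ {Y Z : Scheme.{u}} (g : Y ⟶ Z), DCoh.HasRpush g := fun g => Dcoh.DerSch.hasRpush g
  have hpc : ∀ m : ℤ, DCoh.IsPseudoCoherentD m E := fun m => isPseudoCoherentD_of_isPerfect m (isPerfect hE)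
  have hq := PerfA.PCohQCoh.isQCohD_of_isPseudoCoherentD hpc
  have hGE := isGE hE
  refine of_fibre a c (PerfA.PcFlatPush.pc_Rpush f E hpc _) (PerfC.RpushTrunc.isGE_Rpush f E a) hc fun s => ?_
  obtain ⟨i⟩ := PerfA.RelPerfPush.nonempty_baseChange f ((𝟙 Y : Y ⟶ Y).fiberι s) E hq
  have h1 : ((DCoh.Lpull (pullback.fst f ((𝟙 Y : Y ⟶ Y).fiberι s))).obj E).IsGE a := isGE (lpull _ hE)
  have h2 := PerfC.RpushTrunc.isGE_Rpush (pullback.snd f ((𝟙 Y : Y ⟶ Y).fiberι s))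
    ((DCoh.Lpull (pullback.fst f ((𝟙 Y : Y ⟶ Y).fiberι s))).obj E) a
  exact PerfC.RpushTrunc.isGE_of_iso i.symm a

end Groth.Agent.Pic13.H968.Push
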